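import Mathlib

/-!
# Brauer 1943 arithmetic, piece (AR6) (helper12 for helper16, board #6956)
-/

set_option autoImplicit false

namespace Cfsg.Agent.Helper12.B43

theorem ar_split_neg (p e n d : ℕ) (hp : 2 ≤ p) (he1 : 1 ≤ e) (hep : e < p)
    (hd : (d : ℤ) ≡ -1 [ZMOD p]) (hdvd : d ∣ (1 + n * p) * e) :
    ∃ u h w : ℕ, d + 1 = u * p ∧ w + e = h * p ∧ d * w = (1 + n * p) * e := by
  obtain ⟨w, hw⟩ := hdvd
  have hd1 : (p : ℤ) ∣ (d : ℤ) + 1 := by
    have := Int.modEq_iff_dvd.mp hd.symm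
    simpa using this
  have hwz : (d : ℤ) * w = (1 + n * p) * e := by exact_mod_cast hw.symm
  have hw1 : (p : ℤ) ∣ (w : ℤ) + e := by
    have : (w : ℤ) + e = ((d : ℤ) + 1) * w - n * e * p := by
      rw [add_mul, hwz]; ring
    rw [this]
    exact dvd_sub (Dvd.dvd.mul_right hd1 _) (dvd_mul_left _ _)
  have hd1' : p ∣ d + 1 := by exact_mod_cast hd1
  have hw1' : p ∣ w + e := by exact_mod_cast hw1
  obtain ⟨u, hu⟩ := hd1'
  obtain ⟨h, hh⟩ := hw1'
  exact ⟨u, h, w, by rw [hu, mul_comm], by rw [hh, mul_comm], hw.symm⟩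

end Cfsg.Agent.Helper12.B43
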