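import Mathlib

/-!
# Brauer 1943 arithmetic, piece (AR8) (helper12 for helper16, board #6956)
-/

set_option autoImplicit false

namespace Cfsg.Agent.Helper12.B43

theorem ar_split_exc_neg (p e n y : ℕ) (hp : p.Prime) (he1 : 1 ≤ e) (hep : e < p)
    (hy : (y : ℤ) ≡ -e [ZMOD p]) (hdvd : y ∣ (1 + n * p) * e) :
    ∃ u h w : ℕ, y + e = u * p ∧ w + 1 = h * p ∧ y * w = (1 + n * p) * e := by
  obtain ⟨w, hw⟩ := hdvd
  have hy1 : (p : ℤ) ∣ (y : ℤ) + e := by
    have := Int.modEq_iff_dvd.mp hy.symm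
    simpa using this
  have hwz : (y : ℤ) * w = (1 + n * p) * e := by exact_mod_cast hw.symm
  have hw1 : (p : ℤ) ∣ (e : ℤ) * ((w : ℤ) + 1) := by
    have : (e : ℤ) * ((w : ℤ) + 1) = ((y : ℤ) + e) * w - n * e * p := by
      rw [add_mul, hwz]; ring
    rw [this]
    exact dvd_sub (Dvd.dvd.mul_right hy1 _) (dvd_mul_left _ _)
  have hy1' : p ∣ y + e := by exact_mod_cast hy1
  have hw1' : p ∣ e * (w + 1) := by exact_mod_cast hw1
  have hw2 : p ∣ w + 1 := by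
    rcases hp.dvd_mul.mp hw1' with h | h
    · exact absurd (Nat.le_of_dvd he1 h) (not_le.mpr hep)
    · exact h
  obtain ⟨u, hu⟩ := hy1'
  obtain ⟨h, hh⟩ := hw2
  exact ⟨u, h, w, by rw [hu, mul_comm], by rw [hh, mul_comm], hw.symm⟩

end Cfsg.Agent.Helper12.B43
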